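import Groth.Agent.DimOneAmple.Two
import Mathlib.AlgebraicGeometry.Limits

/-!
# A one-dimensional Noetherian separated scheme has an ample module
-/

set_option autoImplicit false
set_option backward.isDefEq.respectTransparency false
set_option backward.isDefEq.respectTransparency.types false
set_option linter.style.haveILetI false

noncomputable section

universe u

open CategoryTheory CategoryTheory.Limits AlgebraicGeometry Opposite TopologicalSpace
open Groth.Agent.QCohBase Groth.Agent.GenLocus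

namespace Groth.Agent.DimOneAmple

variable {X : Scheme.{u}}

/-- Every affine open is contained in a dense one. -/
theorem exists_dense_affine_ge [IsNoetherian X] {V : X.Opens} (hV : IsAffineOpen V) :
    ∃ V' : X.Opens, V ≤ V' ∧ IsAffineOpen V' ∧ Dense (V' : Set X) := by
  haveI : WellFoundedGT (Opens X) := (inferInstance : NoetherianSpace X)
  obtain ⟨U, ⟨hVU, hU⟩, hmax⟩ := wellFounded_gt.has_min {U : X.Opens | V ≤ U ∧ IsAffineOpen U} ⟨V, le_rfl, hV⟩
  refine ⟨U, hVU, hU, fun x => by_contra fun hx => ?_⟩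
  obtain ⟨W, hW, hxW, hWsub⟩ := exists_isAffineOpen_mem_and_subset
    (U := ⟨(closure (U : Set X))ᶜ, isClosed_closure.isOpen_compl⟩) (x := x) hx
  have hdisj : Disjoint U W := by
    rw [disjoint_iff]
    exact Opens.ext (Set.eq_empty_iff_forall_notMem.2 fun y ⟨hyU, hyW⟩ => hWsub hyW (subset_closure hyU))
  refine hmax (U ⊔ W) ⟨hVU.trans le_sup_left, hU.sup_of_disjoint hW hdisj⟩ ?_
  refine lt_of_le_of_ne le_sup_left fun e => hx (subset_closure ?_)
  have : x ∈ U ⊔ W := Or.inr hxW
  rwa [← e] at this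

/-- The complement of a dense affine open is finite. -/
theorem finite_compl [IsNoetherian X] [X.IsSeparated] (hdim : topologicalKrullDim X ≤ 1) {U : X.Opens}
    (hU : IsAffineOpen U) (hd : Dense (U : Set X)) : ((U : Set X)ᶜ).Finite := by
  classical
  have : ∀ x : ((U : Set X)ᶜ : Set X), ∃ W : X.Opens, x.1 ∈ W ∧ ∀ y ∈ W, y ∉ U → y = x.1 := fun x => by
    obtain ⟨V, hV, hxV, -⟩ := exists_isAffineOpen_mem_and_subset (U := ⊤) (x := x.1) trivial
    obtain ⟨ι, hι, w, hw1, -, hwN⟩ := exists_local_valuations hdim hU hV hd x.2 hxV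
    haveI := hι
    obtain ⟨a, -, ha⟩ := exists_all_gt w ⊤ fun i => (hw1 i).imp fun a ha => ⟨Submodule.mem_top, ha⟩
    obtain ⟨N, W, g, -, hxW, -, honly, -⟩ := hwN a ha
    exact ⟨W, hxW, honly⟩
  choose W hxW honly using this
  obtain ⟨t, ht⟩ := (U.2.isClosed_compl.isCompact).elim_finite_subcover (fun x => (W x : Set X))
    (fun x => (W x).2) fun x hx => Set.mem_iUnion.2 ⟨⟨x, hx⟩, hxW _⟩
  refine (t.finite_toSet.image Subtype.val).subset fun y hy => ?_
  obtain ⟨x, hxt, hyx⟩ := Set.mem_iUnion₂.1 (ht hy)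
  exact ⟨x, hxt, (honly x y hyx hy).symm⟩

/-- Every finite set of points lies in a dense affine open. -/
theorem exists_dense_affine_of_finite [IsNoetherian X] [X.IsSeparated] (hdim : topologicalKrullDim X ≤ 1)
    {Z : Set X} (hZ : Z.Finite) : ∃ U : X.Opens, Z ⊆ U ∧ IsAffineOpen U ∧ Dense (U : Set X) := by
  induction Z, hZ using Set.Finite.induction_on with
  | empty =>
    obtain ⟨U, -, hU, hd⟩ := exists_dense_affine_ge (isAffineOpen_bot X)
    exact ⟨U, Set.empty_subset _, hU, hd⟩
  | @insert x S _ _ ih =>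
    obtain ⟨U, hSU, hU, hd⟩ := ih
    obtain ⟨V, hV, hxV, -⟩ := exists_isAffineOpen_mem_and_subset (U := ⊤) (x := x) trivial
    let O : X.Opens := U ⊔ V
    haveI : IsLocallyNoetherian O.toScheme := isLocallyNoetherian_of_isOpenImmersion O.ι
    haveI : CompactSpace O.toScheme :=
      isCompact_iff_compactSpace.1 (NoetherianSpace.isCompact (O : Set X))
    haveI : IsNoetherian O.toScheme := {}
    haveI : O.toScheme.IsSeparated := ⟨by
      rw [← terminal.comp_from O.ι]
      infer_instance⟩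
    have hdim' : topologicalKrullDim O.toScheme ≤ 1 :=
      (O.ι.isOpenEmbedding.isInducing.topologicalKrullDim_le).trans hdim
    have hU' : IsAffineOpen (O.ι ⁻¹ᵁ U) := hU.preimage_of_isOpenImmersion O.ι
      (by rw [Scheme.Opens.opensRange_ι]; exact le_sup_left)
    have hV' : IsAffineOpen (O.ι ⁻¹ᵁ V) := hV.preimage_of_isOpenImmersion O.ι
      (by rw [Scheme.Opens.opensRange_ι]; exact le_sup_right)
    have hd' : Dense ((O.ι ⁻¹ᵁ U : O.toScheme.Opens) : Set O.toScheme) :=
      hd.preimage O.ι.isOpenEmbedding.isOpenMap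
    have hcov : O.ι ⁻¹ᵁ U ⊔ O.ι ⁻¹ᵁ V = ⊤ := eq_top_iff.2 fun y _ => y.2
    obtain ⟨L, hL⟩ := exists_ample_two hdim' hU' hV' hd' hcov
    have hZ : (O.ι ⁻¹' (insert x S)).Finite :=
      Set.Finite.preimage O.ι.isOpenEmbedding.injective.injOn ((Set.Finite.insert x) ‹S.Finite›)
    obtain ⟨n, s, hZs, -, hs⟩ := exists_affine_genLocus_of_finite hL hZ ⊤ (Set.subset_univ _)
    obtain ⟨U', hle, hU'', hd''⟩ := exists_dense_affine_ge (hs.image_of_isOpenImmersion O.ι)
    refine ⟨U', fun y hy => hle ?_, hU'', hd''⟩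
    have hyO : y ∈ O := by
      rcases hy with rfl | hy
      · exact Or.inr hxV
      · exact Or.inl (hSU hy)
    exact ⟨⟨y, hyO⟩, hZs hy, rfl⟩

/-- A Noetherian separated scheme of dimension at most one has an ample module. -/
theorem exists_ample [IsNoetherian X] [X.IsSeparated] (hdim : topologicalKrullDim X ≤ 1) :
    ∃ L : X.Modules, CohB1.IsAmple L := by
  obtain ⟨U, -, hU, hd⟩ := exists_dense_affine_ge (isAffineOpen_bot X)
  obtain ⟨V, hVsub, hV, -⟩ := exists_dense_affine_of_finite hdim (finite_compl hdim hU hd)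
  refine exists_ample_two hdim hU hV hd (eq_top_iff.2 fun x _ => ?_)
  by_cases hx : x ∈ U
  · exact Or.inl hx
  · exact Or.inr (hVsub hx)

end Groth.Agent.DimOneAmple
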