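import Groth.Agent.CAlgAkizuki.Basic
import Mathlib.RingTheory.DedekindDomain.AdicValuation
import Mathlib.RingTheory.DedekindDomain.Factorization
import Mathlib.RingTheory.Valuation.LocalSubring
import Mathlib.RingTheory.Ideal.MinimalPrime.Localization
import Mathlib.RingTheory.Localization.Away.Basic
import Mathlib.GroupTheory.ArchimedeanDensely

/-!
# Functions with poles at all branches of a one-dimensional local ring
-/

set_option autoImplicit false
set_option linter.style.haveILetI false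

noncomputable section

universe u

open IsDedekindDomain WithZero

namespace Groth.Agent.DimOneAmple

/-- If the maximal ideal generates the unit ideal of `R[f]` then `f` has a power with inverse in it. -/
theorem exists_inverse_of_adjoin {R Q : Type u} [CommRing R] [IsNoetherianRing R] [IsLocalRing R]
    [CommRing Q] [Algebra R Q] {t : R} (ht : t ∈ IsLocalRing.maximalIdeal R) [IsLocalization.Away t Q]
    (hrad : ∃ e : ℕ, IsLocalRing.maximalIdeal R ^ e ≤ Ideal.span {t}) (f : Q)
    (h : (IsLocalRing.maximalIdeal R).map (algebraMap R (Algebra.adjoin R {f})) = ⊤) :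
    ∃ N : ℕ, 0 < N ∧ ∃ r ∈ IsLocalRing.maximalIdeal R, algebraMap R Q r * f ^ N = 1 := by
  classical
  let m := IsLocalRing.maximalIdeal R
  -- write `1` as a polynomial in `f` with coefficients in `m`
  let P : Submodule R Q := Submodule.span R {z | ∃ r ∈ m, ∃ i : ℕ, z = algebraMap R Q r * f ^ i}
  have hmul : ∀ z ∈ P, z * f ∈ P := by
    intro z hz
    induction hz using Submodule.span_induction with
    | mem x hx =>
      obtain ⟨r, hr, i, rfl⟩ := hx
      exact Submodule.subset_span ⟨r, hr, i + 1, by ring⟩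
    | zero => rw [zero_mul]; exact P.zero_mem
    | add x y _ _ hx hy => rw [add_mul]; exact P.add_mem hx hy
    | smul c x _ hx => rw [smul_mul_assoc]; exact P.smul_mem c hx
  have hpow : ∀ z ∈ P, ∀ a ∈ Algebra.adjoin R {f}, a * z ∈ P := by
    intro z hz a ha
    revert z
    induction ha using Algebra.adjoin_induction with
    | mem x hx => intro z hz; rw [Set.mem_singleton_iff.1 hx, mul_comm]; exact hmul z hz
    | algebraMap c => intro z hz; rw [← Algebra.smul_def]; exact P.smul_mem c hz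
    | add x y _ _ hx hy => intro z hz; rw [add_mul]; exact P.add_mem (hx z hz) (hy z hz)
    | mul x y _ _ hx hy => intro z hz; rw [mul_assoc]; exact hx _ (hy z hz)
  have hone : (1 : Q) ∈ P := by
    have h1 : (1 : Algebra.adjoin R {f}) ∈ m.map (algebraMap R (Algebra.adjoin R {f})) := h ▸ Submodule.mem_top
    have key : ∀ z ∈ m.map (algebraMap R (Algebra.adjoin R {f})), (z : Q) ∈ P := by
      intro z hz
      induction hz using Submodule.span_induction with
      | mem x hx =>
        obtain ⟨r, hr, rfl⟩ := hx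
        exact Submodule.subset_span ⟨r, hr, 0, by simp⟩
      | zero => exact P.zero_mem
      | add x y _ _ hx hy => exact P.add_mem hx hy
      | smul c x _ hx => exact hpow _ hx _ c.2
    exact key 1 h1
  -- bounded degree
  have hdeg : ∀ z ∈ P, ∃ n, ∀ M ≥ n, ∃ c : ℕ → R, (∀ i, c i ∈ m) ∧
      z = ∑ i ∈ Finset.range M, algebraMap R Q (c i) * f ^ i := by
    intro z hz
    induction hz using Submodule.span_induction with
    | mem x hx =>
      obtain ⟨r, hr, i, rfl⟩ := hx
      refine ⟨i + 1, fun M hM => ⟨fun j => if j = i then r else 0, fun j => ?_, ?_⟩⟩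
      · dsimp only; split_ifs
        · exact hr
        · exact m.zero_mem
      · rw [Finset.sum_eq_single i]
        · simp
        · intro j _ hj; simp [hj]
        · intro hi; exact absurd (Finset.mem_range.2 (by omega)) hi
    | zero => exact ⟨0, fun M _ => ⟨0, fun _ => m.zero_mem, by simp⟩⟩
    | add x y _ _ hx hy =>
      obtain ⟨n₁, h₁⟩ := hx
      obtain ⟨n₂, h₂⟩ := hy
      refine ⟨max n₁ n₂, fun M hM => ?_⟩
      obtain ⟨c, hc, rfl⟩ := h₁ M (le_trans (le_max_left _ _) hM)
      obtain ⟨c', hc', rfl⟩ := h₂ M (le_trans (le_max_right _ _) hM)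
      exact ⟨c + c', fun i => m.add_mem (hc i) (hc' i), by
        rw [← Finset.sum_add_distrib]; exact Finset.sum_congr rfl fun i _ => by simp [add_mul]⟩
    | smul a x _ hx =>
      obtain ⟨n, hn⟩ := hx
      refine ⟨n, fun M hM => ?_⟩
      obtain ⟨c, hc, rfl⟩ := hn M hM
      exact ⟨fun i => a * c i, fun i => m.mul_mem_left a (hc i), by
        rw [Finset.smul_sum]; exact Finset.sum_congr rfl fun i _ => by rw [Algebra.smul_def, map_mul, mul_assoc]⟩
  obtain ⟨n₀, hn₀⟩ := hdeg 1 hone
  obtain ⟨c, hc, hsum⟩ := hn₀ (n₀ + 2) (by omega)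
  let n := n₀ + 1
  rw [Finset.sum_range_succ'] at hsum
  simp only [pow_zero, mul_one] at hsum
  have hu : IsUnit (1 - algebraMap R Q (c 0)) := by
    have := (IsLocalRing.isUnit_one_sub_self_of_mem_nonunits (c 0) ((IsLocalRing.mem_maximalIdeal _).1 (hc 0))).map
      (algebraMap R Q)
    rwa [map_sub, map_one] at this
  let y := ∑ i ∈ Finset.range n, algebraMap R Q (c (i + 1)) * f ^ i
  have hy : y * f = 1 - algebraMap R Q (c 0) := by
    rw [Finset.sum_mul, eq_sub_iff_add_eq]
    conv_rhs => rw [hsum]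
    exact congrArg (· + _) (Finset.sum_congr rfl fun i _ => by rw [pow_succ, mul_assoc])
  obtain ⟨v, hv⟩ := hu.exists_left_inv
  let q := v * y
  have hqf : q * f = 1 := by rw [mul_assoc, hy, hv]
  -- an integral equation for `q` with coefficients in `m`
  let S : Submodule R Q := Submodule.span R (Set.range fun i : Fin n => q ^ (i : ℕ))
  have hSfg : S.FG := Submodule.fg_span (Set.finite_range _)
  have hS : ∀ i < n, q ^ i ∈ S := fun i hi => Submodule.subset_span ⟨⟨i, hi⟩, rfl⟩
  obtain ⟨u, hu'⟩ : IsUnit (1 - c 0) :=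
    IsLocalRing.isUnit_one_sub_self_of_mem_nonunits _ ((IsLocalRing.mem_maximalIdeal _).1 (hc 0))
  have hvu : v = algebraMap R Q (↑u⁻¹) := by
    have e : algebraMap R Q ↑u * algebraMap R Q ↑u⁻¹ = 1 := by rw [← map_mul, Units.mul_inv, map_one]
    rw [hu', map_sub, map_one] at e
    calc v = v * 1 := (mul_one v).symm
      _ = v * ((1 - algebraMap R Q (c 0)) * algebraMap R Q ↑u⁻¹) := by rw [e]
      _ = _ := by rw [← mul_assoc, hv, one_mul]
  have hqn : q ^ n ∈ m • S := by
    have e : q ^ n = ∑ i ∈ Finset.range n, algebraMap R Q (↑u⁻¹ * c (i + 1)) * q ^ (n - 1 - i) := by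
      calc q ^ n = q ^ (n - 1) * q := by rw [← pow_succ]; rfl
        _ = ∑ i ∈ Finset.range n, v * algebraMap R Q (c (i + 1)) * (q ^ (n - 1) * f ^ i) := by
            simp only [q, y, Finset.mul_sum]
            exact Finset.sum_congr rfl fun i _ => by ring
        _ = _ := by
            refine Finset.sum_congr rfl fun i hi => ?_
            rw [map_mul, ← hvu]
            congr 1
            obtain ⟨k, hk⟩ := Nat.exists_eq_add_of_le (show i ≤ n - 1 by have := Finset.mem_range.1 hi; omega)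
            rw [hk, Nat.add_sub_cancel_left, pow_add, mul_comm (q ^ i), mul_assoc, ← mul_pow, hqf, one_pow, mul_one]
    rw [e]
    refine Submodule.sum_mem _ fun i hi => ?_
    rw [← Algebra.smul_def]
    exact Submodule.smul_mem_smul (m.mul_mem_left _ (hc _)) (hS _ (by omega))
  have hmulS : ∀ z ∈ S, q * z ∈ S := by
    intro z hz
    induction hz using Submodule.span_induction with
    | mem x hx =>
      obtain ⟨i, rfl⟩ := hx
      by_cases hi : (i : ℕ) + 1 < n
      · show q * q ^ (i : ℕ) ∈ S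
        rw [← pow_succ']; exact hS _ hi
      · show q * q ^ (i : ℕ) ∈ S
        rw [← pow_succ', show (i : ℕ) + 1 = n by have := i.2; omega]
        exact Submodule.smul_le_right hqn
    | zero => rw [mul_zero]; exact S.zero_mem
    | add x y _ _ hx hy => rw [mul_add]; exact S.add_mem hx hy
    | smul a x _ hx => rw [mul_smul_comm]; exact S.smul_mem a hx
  have hmulk : ∀ k, ∀ z ∈ S, q ^ k * z ∈ S := by
    intro k
    induction k with
    | zero => intro z hz; rwa [pow_zero, one_mul]
    | succ k ih => intro z hz; rw [pow_succ, mul_assoc]; exact ih _ (hmulS z hz)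
  have hqS : ∀ z ∈ S, q ^ n * z ∈ m • S := by
    intro z hz
    induction hz using Submodule.span_induction with
    | mem x hx =>
      obtain ⟨i, rfl⟩ := hx
      rw [mul_comm]
      have : ∀ w ∈ m • S, q ^ (i : ℕ) * w ∈ m • S := fun w hw => by
        refine Submodule.smul_induction_on hw (fun r hr z hz => ?_) (fun a b ha hb => ?_)
        · rw [mul_smul_comm]; exact Submodule.smul_mem_smul hr (hmulk _ z hz)
        · rw [mul_add]; exact Submodule.add_mem _ ha hb
      exact this _ hqn
    | zero => rw [mul_zero]; exact Submodule.zero_mem _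
    | add x y _ _ hx hy => rw [mul_add]; exact Submodule.add_mem _ hx hy
    | smul a x _ hx => rw [mul_smul_comm]; exact Submodule.smul_mem _ a hx
  have hpowk : ∀ k, q ^ (n * k) ∈ m ^ k • S := by
    intro k
    induction k with
    | zero =>
      rw [mul_zero, pow_zero q, pow_zero, Ideal.one_eq_top, Submodule.top_smul]
      simpa using hS 0 (by omega)
    | succ k ih =>
      rw [show n * (k + 1) = n + n * k by ring, pow_add, pow_add, pow_one, mul_smul]
      refine Submodule.smul_induction_on ih (fun r hr z hz => ?_) (fun a b ha hb => ?_)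
      · rw [mul_smul_comm]; exact Submodule.smul_mem_smul hr (hqS z hz)
      · rw [mul_add]; exact Submodule.add_mem _ ha hb
  -- clear denominators
  obtain ⟨s, hs⟩ := hSfg
  obtain ⟨k, hk⟩ : ∃ k : ℕ, ∀ z ∈ s, ∃ r : R, algebraMap R Q (t ^ k) * z = algebraMap R Q r := by
    obtain ⟨⟨_, k, rfl⟩, hb⟩ := IsLocalization.exist_integer_multiples_of_finset (Submonoid.powers t) s
    refine ⟨k, fun z hz => ?_⟩
    obtain ⟨r, hr⟩ := hb z hz
    exact ⟨r, by rw [hr]; exact (Algebra.smul_def _ _).symm⟩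
  have hk' : ∀ z ∈ S, ∃ r : R, algebraMap R Q (t ^ k) * z = algebraMap R Q r := by
    rw [← hs]
    intro z hz
    induction hz using Submodule.span_induction with
    | mem x hx => exact hk x hx
    | zero => exact ⟨0, by simp⟩
    | add x y _ _ hx hy =>
      obtain ⟨a, ha⟩ := hx
      obtain ⟨b, hb⟩ := hy
      exact ⟨a + b, by rw [mul_add, ha, hb, map_add]⟩
    | smul a x _ hx =>
      obtain ⟨b, hb⟩ := hx
      exact ⟨a * b, by rw [mul_smul_comm, hb, Algebra.smul_def, map_mul]⟩
  obtain ⟨e₀, he₀⟩ := hrad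
  let e := e₀ + 1
  have he : m ^ e ≤ Ideal.span {t} := (Ideal.pow_le_pow_right (Nat.le_succ e₀)).trans he₀
  have hmem : q ^ (n * (e * (k + 1))) ∈ Ideal.span {t} ^ (k + 1) • S := by
    refine Submodule.smul_mono_left ?_ (hpowk _)
    rw [pow_mul]
    exact Ideal.pow_right_mono he _
  rw [Ideal.span_singleton_pow, Submodule.ideal_span_singleton_smul] at hmem
  obtain ⟨z, hz, hzq⟩ := (Submodule.mem_smul_pointwise_iff_exists _ _ _).1 hmem
  obtain ⟨r, hr⟩ := hk' z hz
  refine ⟨n * (e * (k + 1)), by positivity, t * r, Ideal.mul_mem_right _ _ ht, ?_⟩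
  have e' : algebraMap R Q (t * r) = q ^ (n * (e * (k + 1))) := by
    rw [map_mul, ← hr, ← mul_assoc, ← map_mul, ← pow_succ', ← Algebra.smul_def, hzq]
  rw [e', ← mul_pow, hqf, one_pow]

/-- The finitely many valuations at a point detecting when a function has a pole of full strength. -/
theorem exists_branches (R : Type u) [CommRing R] [IsNoetherianRing R] [IsLocalRing R]
    [Ring.KrullDimLE 1 R] (t : R) (ht : t ∈ IsLocalRing.maximalIdeal R)
    (htmin : ∀ P ∈ minimalPrimes R, t ∉ P) (Q : Type u) [CommRing Q] [Algebra R Q]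
    [IsLocalization.Away t Q] :
    ∃ (ι : Type u) (_ : Finite ι) (K : ι → Type u) (_ : ∀ i, Field (K i)) (φ : ∀ i, Q →+* K i)
      (w : ∀ i, Valuation (K i) (WithZero (Multiplicative ℤ))),
      (∀ i (r : R), w i (φ i (algebraMap R Q r)) ≤ 1) ∧
      (∀ i, ∀ r ∈ IsLocalRing.maximalIdeal R, w i (φ i (algebraMap R Q r)) < 1) ∧
      ∀ f : Q, (∀ i, 1 < w i (φ i f)) →
        ∃ N : ℕ, 0 < N ∧ ∃ r ∈ IsLocalRing.maximalIdeal R, algebraMap R Q r * f ^ N = 1 := by
  classical
  let m := IsLocalRing.maximalIdeal R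
  have hmax : ∀ P : Ideal R, P.IsPrime → t ∈ P → P = m := fun P hP htP =>
    ((Ring.krullDimLE_one_iff.1 ‹_› P hP).resolve_left fun h => htmin P h htP).eq_of_le
      (IsLocalRing.maximalIdeal.isMaximal R).ne_top (IsLocalRing.le_maximalIdeal hP.ne_top)
  have hrad : ∃ e : ℕ, m ^ e ≤ Ideal.span {t} := by
    refine Ideal.exists_pow_le_of_le_radical_of_fg ?_ (IsNoetherian.noetherian _)
    rw [Ideal.radical_eq_sInf]
    refine le_sInf fun P ⟨hP, hPp⟩ => ?_
    exact (hmax P hPp (hP (Ideal.mem_span_singleton_self t))).ge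
  let MP := {P : Ideal R // P ∈ minimalPrimes R}
  haveI : Finite MP := (minimalPrimes.finite_of_isNoetherianRing R).to_subtype
  haveI : ∀ P : MP, P.1.IsPrime := fun P => P.2.1.1
  haveI : ∀ P : MP, Ring.KrullDimLE 1 (R ⧸ P.1) := fun P =>
    Ring.krullDimLE_one_iff.2 fun I hI => by
      by_cases h : I = ⊥
      · exact Or.inl (by subst h; exact (IsDomain.minimalPrimes_eq_singleton_bot (R ⧸ P.1)).ge rfl)
      refine Or.inr ?_
      have hc : (I.comap (Ideal.Quotient.mk P.1)).IsPrime := hI.comap _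
      rcases Ring.krullDimLE_one_iff.1 ‹Ring.KrullDimLE 1 R› _ hc with h' | h'
      · refine absurd ?_ h
        have hle : P.1 ≤ I.comap (Ideal.Quotient.mk P.1) := fun z hz => by
          show Ideal.Quotient.mk P.1 z ∈ I
          rw [Ideal.Quotient.eq_zero_iff_mem.2 hz]; exact I.zero_mem
        have e := le_antisymm (h'.2 ⟨P.2.1.1, bot_le⟩ hle) hle
        rw [← Ideal.map_comap_of_surjective _ Ideal.Quotient.mk_surjective I, e, Ideal.map_quotient_self]
      · exact Ideal.map_comap_of_surjective _ Ideal.Quotient.mk_surjective I ▸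
          (Ideal.map_eq_top_or_isMaximal_of_surjective _ Ideal.Quotient.mk_surjective h').resolve_left
            (by rw [Ideal.map_comap_of_surjective _ Ideal.Quotient.mk_surjective I]; exact hI.ne_top)
  let B : MP → Type u := fun P => integralClosure (R ⧸ P.1) (FractionRing (R ⧸ P.1))
  haveI hB : ∀ P : MP, IsDedekindDomain (B P) := fun P =>
    (CAlgAkizuki.dedekind_facts (R ⧸ P.1) (FractionRing (R ⧸ P.1)) (FractionRing (R ⧸ P.1)) (B P)).1
  haveI : ∀ P : MP, IsFractionRing (B P) (FractionRing (R ⧸ P.1)) := fun P =>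
    IsIntegralClosure.isFractionRing_of_finite_extension (R ⧸ P.1) (FractionRing (R ⧸ P.1))
      (FractionRing (R ⧸ P.1)) (B P)
  let toB : ∀ P : MP, R →+* B P := fun P => (algebraMap (R ⧸ P.1) (B P)).comp (Ideal.Quotient.mk P.1)
  have htB : ∀ P : MP, toB P t ≠ 0 := fun P h => by
    have := congrArg (algebraMap (B P) (FractionRing (R ⧸ P.1))) h
    rw [map_zero] at this
    exact htmin P.1 P.2 (Ideal.Quotient.eq_zero_iff_mem.1
      ((IsFractionRing.injective (R ⧸ P.1) (FractionRing (R ⧸ P.1))) (this.trans (map_zero _).symm)))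
  let ι := Σ P : MP, {v : HeightOneSpectrum (B P) // toB P t ∈ v.asIdeal}
  haveI : ∀ P : MP, Finite {v : HeightOneSpectrum (B P) // toB P t ∈ v.asIdeal} := fun P => by
    refine ((Ideal.finite_factors (I := Ideal.span {toB P t}) ?_).subset fun v hv => ?_).to_subtype
    · rw [Ideal.zero_eq_bot, Ne, Ideal.span_singleton_eq_bot]; exact htB P
    · exact Ideal.dvd_iff_le.2 ((Ideal.span_singleton_le_iff_mem _).2 hv)
  have hunit : ∀ i : ι, IsUnit ((algebraMap (B i.1) (FractionRing (R ⧸ i.1.1))).comp (toB i.1) t) := fun i =>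
    isUnit_iff_ne_zero.2 fun h => htB i.1 ((IsFractionRing.injective (B i.1) _) (h.trans (map_zero _).symm))
  let φ : ∀ i : ι, Q →+* FractionRing (R ⧸ i.1.1) := fun i => IsLocalization.Away.lift t (hunit i)
  have hφ : ∀ i r, φ i (algebraMap R Q r) = algebraMap (B i.1) _ (toB i.1 r) := fun i r =>
    IsLocalization.Away.lift_eq t (hunit i) r
  refine ⟨ι, inferInstance, fun i => FractionRing (R ⧸ i.1.1), fun i => inferInstance, φ,
    fun i => i.2.1.valuation _, fun i r => ?_, fun i r hr => ?_, fun f hf => ?_⟩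
  · rw [hφ]; exact i.2.1.valuation_le_one _
  · rw [hφ]
    refine (HeightOneSpectrum.valuation_lt_one_iff_mem (K := FractionRing (R ⧸ i.1.1)) i.2.1 _).2 ?_
    have hpr : (i.2.1.asIdeal.comap (toB i.1)).IsPrime := Ideal.IsPrime.comap _
    have := hmax _ hpr i.2.2
    exact (this.symm ▸ hr : r ∈ i.2.1.asIdeal.comap (toB i.1))
  refine exists_inverse_of_adjoin ht hrad f (by_contra fun hne => ?_)
  obtain ⟨𝔔, h𝔔, hle⟩ := Ideal.exists_le_maximal _ hne
  haveI := h𝔔.isPrime
  obtain ⟨𝔭, h𝔭, h𝔭Q⟩ := Ideal.exists_minimalPrimes_le (I := (⊥ : Ideal (Algebra.adjoin R {f}))) (J := 𝔔) bot_le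
  obtain ⟨PQ, hPQ, hPQc⟩ := Ideal.exists_comap_eq_of_mem_minimalPrimes_of_injective
    (f := (Algebra.adjoin R {f}).val.toRingHom) Subtype.val_injective 𝔭 h𝔭
  haveI := hPQ
  let P₀ := PQ.comap (algebraMap R Q)
  have htP : t ∉ P₀ := fun h => hPQ.ne_top (Ideal.eq_top_of_isUnit_mem _ h
    (IsLocalization.map_units Q ⟨t, Submonoid.mem_powers t⟩))
  have hP₀ : P₀ ∈ minimalPrimes R := (Ring.krullDimLE_one_iff.1 ‹Ring.KrullDimLE 1 R› P₀ inferInstance).resolve_right
    fun h => htP ((h.eq_of_le (IsLocalRing.maximalIdeal.isMaximal R).ne_top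
      (IsLocalRing.le_maximalIdeal h.ne_top)).symm ▸ ht)
  let P : MP := ⟨P₀, hP₀⟩
  let K := FractionRing (R ⧸ P₀)
  let g : R →+* K := (algebraMap (R ⧸ P₀) K).comp (Ideal.Quotient.mk P₀)
  have hg : IsUnit (g t) := isUnit_iff_ne_zero.2 fun h => htP (Ideal.Quotient.eq_zero_iff_mem.1
    ((IsFractionRing.injective (R ⧸ P₀) K) (h.trans (map_zero _).symm)))
  let ψ : Q →+* K := IsLocalization.Away.lift t hg
  have hψ : ∀ r, ψ (algebraMap R Q r) = g r := fun r => IsLocalization.Away.lift_eq t hg r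
  have hker : RingHom.ker ψ = PQ := by
    haveI := RingHom.ker_isPrime ψ
    refine (IsLocalization.map_under (Submonoid.powers t) Q _).symm.trans (Eq.trans (congrArg _ ?_) (IsLocalization.map_under (Submonoid.powers t) Q _))
    ext r
    show ψ (algebraMap R Q r) = 0 ↔ r ∈ P₀
    rw [hψ, ← Ideal.Quotient.eq_zero_iff_mem]
    exact map_eq_zero_iff _ (IsFractionRing.injective (R ⧸ P₀) K)
  -- the image of `R[f]` in `K` with the ideal `𝔔`
  let σ : Algebra.adjoin R {f} →+* K := ψ.comp (Algebra.adjoin R {f}).val.toRingHom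
  have hσker : RingHom.ker σ ≤ 𝔔 := fun z hz => h𝔭Q (hPQc ▸ (hker ▸ (show ψ z = 0 from hz) : (z : Q) ∈ PQ))
  let I := 𝔔.map σ.rangeRestrict
  have hI : I ≠ ⊤ := by
    intro h
    have := congrArg (Ideal.comap σ.rangeRestrict) h
    rw [Ideal.comap_map_of_surjective _ σ.rangeRestrict_surjective, Ideal.comap_top] at this
    exact h𝔔.ne_top (top_unique (this.ge.trans (sup_le le_rfl (by
      rw [← RingHom.ker_eq_comap_bot, RingHom.ker_rangeRestrict]; exact hσker))))
  obtain ⟨O, hAO, hIO⟩ := Ideal.image_subset_nonunits_valuationSubring I hI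
  have hOR : ∀ r : R, g r ∈ O := fun r => by
    refine hAO ⟨algebraMap R (Algebra.adjoin R {f}) r, ?_⟩
    exact hψ r
  have hm : ∀ r ∈ m, g r ∈ O.nonunits := fun r hr => by
    refine hIO ⟨σ.rangeRestrict (algebraMap R _ r), Ideal.mem_map_of_mem _ (hle (Ideal.mem_map_of_mem _ hr)), ?_⟩
    exact hψ r
  have hfO : ψ f ∈ O := hAO ⟨⟨f, Algebra.subset_adjoin rfl⟩, rfl⟩
  have hBO : ∀ b : B P, algebraMap (B P) K b ∈ O := fun b => by
    obtain ⟨p, hp, hpb⟩ := b.2
    let ρ : (R ⧸ P₀) →+* O := (algebraMap (R ⧸ P₀) K).codRestrict O.toSubring fun z => by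
      obtain ⟨r, rfl⟩ := Ideal.Quotient.mk_surjective z
      exact hOR r
    have hint : IsIntegral O (b.1 : K) := ⟨p.map ρ, hp.map ρ, by
      rw [Polynomial.eval₂_map]; exact hpb⟩
    obtain ⟨z, hz⟩ := (IsIntegrallyClosed.isIntegral_iff).1 hint
    have hz' : (z : K) = algebraMap (B P) K b := hz
    exact hz' ▸ z.2
  let v₀ : Ideal (B P) :=
    (IsLocalRing.maximalIdeal O).comap ((algebraMap (B P) K).codRestrict O.toSubring hBO)
  have hv₀mem : ∀ b : B P, b ∈ v₀ ↔ algebraMap (B P) K b ∈ O.nonunits := fun b => by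
    rw [ValuationSubring.mem_nonunits_iff_exists_mem_maximalIdeal]
    exact ⟨fun h => ⟨hBO b, h⟩, fun ⟨_, h⟩ => h⟩
  have htv : toB P t ∈ v₀ := (hv₀mem _).2 (hm t ht)
  let v : HeightOneSpectrum (B P) := ⟨v₀, inferInstanceAs (Ideal.IsPrime (Ideal.comap _ _)), fun h => htB P (Ideal.mem_bot.1 (h ▸ htv))⟩
  have hOv : HeightOneSpectrum.valuationSubringAtPrime K v ≤ O := by
    rw [HeightOneSpectrum.valuationSubringAtPrime_eq_valuationSubring]
    intro z hz
    obtain ⟨b, d, hbd⟩ := HeightOneSpectrum.exists_primeCompl_mul_eq_of_integer v z hz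
    have hd : algebraMap (B P) K d ∉ O.nonunits := fun h => d.2 ((hv₀mem _).2 h)
    rcases O.mem_or_inv_mem z with h | h
    · exact h
    · by_contra hzO
      have hz0 : z ≠ 0 := fun h0 => hzO (h0 ▸ O.zero_mem)
      refine hd ?_
      rw [show algebraMap (B P) K d = z⁻¹ * algebraMap (B P) K b by
        rw [← hbd, ← mul_assoc, inv_mul_cancel₀ hz0, one_mul]]
      have hzn : z⁻¹ ∈ O.nonunits := (ValuationSubring.inv_mem_nonunits_iff O).2 (Or.inr hzO)
      rw [ValuationSubring.mem_nonunits_iff] at hzn ⊢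
      rw [map_mul]
      exact mul_lt_one_of_lt_of_le hzn ((O.valuation_le_one_iff _).2 (hBO b))
  have hOtop : O ≠ ⊤ := fun h => by
    obtain ⟨z, hz⟩ := hg
    have h1 : g t ∈ O.nonunits := hm t ht
    rw [ValuationSubring.mem_nonunits_iff, h] at h1
    have h2 : (g t)⁻¹ ∈ (⊤ : ValuationSubring K) := trivial
    rw [← ValuationSubring.valuation_le_one_iff, map_inv₀] at h2
    have h3 : (⊤ : ValuationSubring K).valuation (g t) ≠ 0 := (Valuation.ne_zero_iff _).2 (hz ▸ z.ne_zero)
    exact absurd ((inv_le_one₀ (zero_lt_iff.2 h3)).1 h2) h1.not_ge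
  have hOeq := ValuationSubring.eq_of_le_of_ne_top _ hOv hOtop
  have hlt := hf ⟨P, v, htv⟩
  rw [← hOeq, HeightOneSpectrum.valuationSubringAtPrime_eq_valuationSubring] at hfO
  exact absurd ((Valuation.mem_valuationSubring_iff _ _).1 hfO) (not_le.2 hlt)

/-- A function with poles along finitely many valuations. -/
theorem exists_all_gt {A ι : Type u} [CommRing A] [Finite ι]
    (w : ι → Valuation A (WithZero (Multiplicative ℤ))) (I : Ideal A)
    (h : ∀ i, ∃ a ∈ I, 1 < w i a) : ∃ a ∈ I, ∀ i, 1 < w i a := by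
  classical
  haveI := Fintype.ofFinite ι
  suffices ∀ S : Finset ι, ∃ a ∈ I, ∀ i ∈ S, 1 < w i a by
    obtain ⟨a, ha, ha'⟩ := this Finset.univ
    exact ⟨a, ha, fun i => ha' i (Finset.mem_univ i)⟩
  intro S
  induction S using Finset.induction_on with
  | empty => exact ⟨0, I.zero_mem, fun i hi => absurd hi (Finset.notMem_empty i)⟩
  | insert i S _ ih =>
    obtain ⟨a, ha, haS⟩ := ih
    by_cases hi : 1 < w i a
    · exact ⟨a, ha, fun j hj => (Finset.mem_insert.1 hj).elim (fun e => e ▸ hi) (haS j)⟩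
    obtain ⟨b, hb, hbi⟩ := h i
    have key : ∀ j : S, ∃ n : ℕ, ∀ N ≥ n, w j.1 b < w j.1 a ^ N := fun j => by
      have h1 : 1 < w j.1 a := haS j.1 j.2
      obtain ⟨n, hn⟩ : ∃ n : ℕ, w j.1 b < w j.1 a ^ n := by
        obtain ⟨n, hn⟩ := MulArchimedean.arch (w j.1 b) h1
        exact ⟨n + 1, hn.trans_lt (pow_lt_pow_right₀ h1 n.lt_succ_self)⟩
      exact ⟨n, fun N hN => hn.trans_le (pow_le_pow_right₀ h1.le hN)⟩
    choose n hn using key
    let N := ∑ j : S, n j + 1
    refine ⟨a ^ N + b, I.add_mem (I.pow_mem_of_mem ha N (by omega)) hb, fun j hj => ?_⟩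
    rcases Finset.mem_insert.1 hj with rfl | hj
    · have : w j (a ^ N) < w j b := by
        rw [map_pow]
        exact (pow_le_one₀ zero_le (not_lt.1 hi)).trans_lt hbi
      rwa [Valuation.map_add_eq_of_lt_right _ this]
    · have hle : n ⟨j, hj⟩ ≤ N :=
        (Finset.single_le_sum (f := n) (fun _ _ => Nat.zero_le _) (Finset.mem_univ _)).trans (Nat.le_succ _)
      have := hn ⟨j, hj⟩ N hle
      rw [← map_pow] at this
      rw [Valuation.map_add_eq_of_lt_left _ this, map_pow]
      exact one_lt_pow₀ (haS j hj) (by omega)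

end Groth.Agent.DimOneAmple
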