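import Groth.Agent.DimOneAmple.Alg
import Groth.Agent.QCohBase.Localization
import Mathlib.AlgebraicGeometry.Noetherian
import Mathlib.AlgebraicGeometry.Morphisms.Separated
import Mathlib.Topology.KrullDimension

/-!
# Poles at a closed point outside a dense affine open of a one-dimensional separated scheme
-/

set_option autoImplicit false
set_option backward.isDefEq.respectTransparency false
set_option backward.isDefEq.respectTransparency.types false
set_option linter.style.haveILetI false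

noncomputable section

universe u

open CategoryTheory AlgebraicGeometry Opposite TopologicalSpace WithZero
open Groth.Agent.QCohBase

namespace Groth.Agent.DimOneAmple

variable {X : Scheme.{u}}

theorem krullDimLE_one_sections {W : X.Opens} (hW : IsAffineOpen W) (hdim : topologicalKrullDim X ≤ 1) :
    Ring.KrullDimLE 1 Γ(X, W) := by
  rw [Ring.krullDimLE_iff, ← PrimeSpectrum.topologicalKrullDim_eq_ringKrullDim]
  exact (hW.fromSpec.isOpenEmbedding.isInducing.topologicalKrullDim_le).trans hdim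

theorem krullDimLE_one_atPrime {B : Type u} [CommRing B] [Ring.KrullDimLE 1 B] (p : Ideal B) [p.IsPrime] :
    Ring.KrullDimLE 1 (Localization.AtPrime p) := by
  refine Ring.krullDimLE_one_iff.2 fun P hP => ?_
  have hc : (P.comap (algebraMap B (Localization.AtPrime p))).IsPrime := hP.comap _
  have hle : P.comap (algebraMap B (Localization.AtPrime p)) ≤ p := by
    refine le_trans (Ideal.comap_mono (IsLocalRing.le_maximalIdeal hP.ne_top)) ?_
    exact (IsLocalization.AtPrime.under_maximalIdeal (Localization.AtPrime p) p).le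
  rcases Ring.krullDimLE_one_iff.1 ‹Ring.KrullDimLE 1 B› _ hc with h | h
  · refine Or.inl ⟨⟨hP, bot_le⟩, fun Q hQ hQP => ?_⟩
    haveI := hQ.1
    have e := le_antisymm (h.2 ⟨hQ.1.comap _, bot_le⟩ (Ideal.comap_mono hQP)) (Ideal.comap_mono hQP)
    rw [← IsLocalization.map_under p.primeCompl (Localization.AtPrime p) P,
      ← IsLocalization.map_under p.primeCompl (Localization.AtPrime p) Q]
    exact (congrArg (Ideal.map (algebraMap B (Localization.AtPrime p))) e).le
  · refine Or.inr ?_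
    have hp : P.comap (algebraMap B (Localization.AtPrime p)) = p := h.eq_of_le ‹p.IsPrime›.ne_top hle
    rw [← IsLocalization.map_under p.primeCompl (Localization.AtPrime p) P]
    show ((P.comap (algebraMap B (Localization.AtPrime p))).map _).IsMaximal
    rw [hp, Localization.AtPrime.map_eq_maximalIdeal]
    exact IsLocalRing.maximalIdeal.isMaximal _

theorem prod_mem_of_mem {A : Type*} [CommRing A] {κ : Type*} [Fintype κ] (z : κ → A) (J : Ideal A) (k : κ)
    (hk : z k ∈ J) : ∏ i, z i ∈ J :=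
  Ideal.mem_of_dvd _ (Finset.dvd_prod_of_mem z (Finset.mem_univ k)) hk

/-- The valuations at a point outside `U`: they detect when a function on `U` has an inverse near the point. -/
theorem exists_local_valuations' [IsLocallyNoetherian X] [X.IsSeparated] (hdim : topologicalKrullDim X ≤ 1)
    {U V : X.Opens} (hU : IsAffineOpen U) (hV : IsAffineOpen V) (hd : Dense (U : Set X))
    {x : X} (hxU : x ∉ U) (hxV : x ∈ V) :
    ∃ (ι : Type u) (_ : Finite ι) (w : ι → Valuation Γ(X, U) (WithZero (Multiplicative ℤ))),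
      (∀ i, ∃ a : Γ(X, U), 1 < w i a) ∧ (∀ i, ∃ a : Γ(X, U), X.basicOpen a ≤ V ∧ w i a ≠ 0) ∧
      (∀ f : Γ(X, U), (∀ i, 1 < w i f) →
        ∃ (N : ℕ) (W : X.Opens) (g : Γ(X, W)), 0 < N ∧ x ∈ W ∧ W ≤ V ∧ (∀ y ∈ W, y ∉ U → y = x) ∧
          x ∉ X.basicOpen g ∧
          ores (inf_le_left : W ⊓ U ≤ W) g * ores (inf_le_right : W ⊓ U ≤ U) (f ^ N) = 1) ∧
      ∀ (hle : U ≤ V) i (b : Γ(X, V)), w i (ores hle b) ≤ 1 ∧
        (b ∈ (hV.primeIdealOf ⟨x, hxV⟩).asIdeal → w i (ores hle b) < 1) := by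
  classical
  haveI := IsLocallyNoetherian.component_noetherian (X := X) ⟨V, hV⟩
  haveI := krullDimLE_one_sections hV hdim
  let p := (hV.primeIdealOf ⟨x, hxV⟩).asIdeal
  have hmem : ∀ (q : PrimeSpectrum Γ(X, V)) (b : Γ(X, V)), hV.fromSpec q ∈ X.basicOpen b ↔ b ∉ q.asIdeal := fun q b => by
    rw [← PrimeSpectrum.mem_basicOpen, ← hV.fromSpec_preimage_basicOpen]
    rfl
  have hfs : ∀ y (hy : y ∈ V), hV.fromSpec (hV.primeIdealOf ⟨y, hy⟩) = y := fun y hy => hV.fromSpec_primeIdealOf ⟨y, hy⟩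
  have hmem' : ∀ y (hy : y ∈ V) (b : Γ(X, V)), y ∈ X.basicOpen b ↔ b ∉ (hV.primeIdealOf ⟨y, hy⟩).asIdeal :=
    fun y hy b => by
      have h1 := hmem (hV.primeIdealOf ⟨y, hy⟩) b
      rwa [hfs] at h1
  -- the point is not generic
  have hpmin : p ∉ minimalPrimes Γ(X, V) := by
    intro hp
    obtain ⟨z, hzV, hzU⟩ : ∃ z, z ∈ X.basicOpen (1 : Γ(X, V)) ∧ z ∈ U := by
      rw [X.basicOpen_of_isUnit isUnit_one]
      exact hd.inter_open_nonempty _ V.2 ⟨x, hxV⟩
    have hfin : (minimalPrimes Γ(X, V)).Finite := minimalPrimes.finite_of_isNoetherianRing _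
    obtain ⟨b, hb, hbp⟩ : ∃ b, (∀ q ∈ minimalPrimes Γ(X, V), q ≠ p → b ∈ q) ∧ b ∉ p := by
      have : ∀ q : {q // q ∈ hfin.toFinset.erase p}, ∃ z ∈ (q : Ideal Γ(X, V)), z ∉ p := fun q => by
        obtain ⟨hne, hq⟩ := Finset.mem_erase.1 q.2
        exact SetLike.not_le_iff_exists.1 fun hle => hne
          (le_antisymm hle (hp.2 ⟨(hfin.mem_toFinset.1 hq).1.1, bot_le⟩ hle))
      choose z hz hzp using this
      refine ⟨∏ q, z q, fun q hq hne => ?_, fun h => ?_⟩
      · have hk := Finset.mem_erase.2 ⟨hne, hfin.mem_toFinset.2 hq⟩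
        exact prod_mem_of_mem z _ ⟨q, hk⟩ (hz ⟨q, hk⟩)
      obtain ⟨q, -, hq⟩ := (Ideal.IsPrime.prod_mem_iff (p := p)).1 h
      exact hzp q hq
    obtain ⟨y, hy, hyU⟩ := hd.inter_open_nonempty _ (X.basicOpen b).2
      ⟨x, (hmem' x hxV b).2 hbp⟩
    have hyV : y ∈ V := X.basicOpen_le b hy
    let qy := hV.primeIdealOf ⟨y, hyV⟩
    obtain ⟨q, hq, hqy⟩ := Ideal.exists_minimalPrimes_le (I := (⊥ : Ideal Γ(X, V))) (J := qy.asIdeal) bot_le
    have hqp : q = p := by
      by_contra hne
      exact (hmem' y hyV b).1 hy (hqy (hb q hq hne))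
    have hsp : hV.primeIdealOf ⟨x, hxV⟩ ⤳ qy := (PrimeSpectrum.le_iff_specializes _ _).1 (show p ≤ qy.asIdeal by rw [← hqp]; exact hqy)
    have := hsp.map hV.fromSpec.continuous
    rw [hfs, hfs] at this
    exact hxU (this.mem_open U.2 hyU)
  obtain ⟨t, htp, htmin⟩ : ∃ t ∈ p, ∀ q ∈ minimalPrimes Γ(X, V), t ∉ q := by
    by_contra! h
    obtain ⟨q, hq, hpq⟩ := (Ideal.subset_union_prime_finite (minimalPrimes.finite_of_isNoetherianRing Γ(X, V))
      (f := id) p p (fun i hi _ _ => hi.1.1)).1 (fun z hz => by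
        obtain ⟨q, hq, hzq⟩ := h z hz
        exact Set.mem_iUnion₂.2 ⟨q, hq, hzq⟩)
    exact hpmin ((le_antisymm hpq (hq.2 ⟨(hV.primeIdealOf ⟨x, hxV⟩).isPrime, bot_le⟩ hpq)) ▸ hq)
  -- shrink `V` so that only `x` is outside `U` and `t` vanishes only at `x`
  have hprime_max : ∀ q : PrimeSpectrum Γ(X, V), q.asIdeal ∉ minimalPrimes Γ(X, V) → q.asIdeal.IsMaximal := fun q hq =>
    (Ring.krullDimLE_one_iff.1 ‹_› q.asIdeal q.isPrime).resolve_left hq
  let F : Set (PrimeSpectrum Γ(X, V)) := {q | (t ∈ q.asIdeal ∨ hV.fromSpec q ∉ U) ∧ q.asIdeal ≠ p}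
  have hZ : ∀ q : PrimeSpectrum Γ(X, V), (t ∈ q.asIdeal ∨ hV.fromSpec q ∉ U) → q.asIdeal ∉ minimalPrimes Γ(X, V) := by
    rintro q (h | h) hq
    · exact htmin _ hq h
    · have hfin : (minimalPrimes Γ(X, V)).Finite := minimalPrimes.finite_of_isNoetherianRing _
      have : ∀ q' : {q' // q' ∈ hfin.toFinset.erase q.asIdeal}, ∃ z ∈ (q' : Ideal Γ(X, V)), z ∉ q.asIdeal := fun q' => by
        obtain ⟨hne, hq'⟩ := Finset.mem_erase.1 q'.2
        exact SetLike.not_le_iff_exists.1 fun hle => hne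
          (le_antisymm hle (hq.2 ⟨(hfin.mem_toFinset.1 hq').1.1, bot_le⟩ hle))
      choose z hz hzp using this
      have hbq : (∏ q', z q') ∉ q.asIdeal := fun h' => by
        obtain ⟨q', -, hq'⟩ := (Ideal.IsPrime.prod_mem_iff (p := q.asIdeal)).1 h'
        exact hzp q' hq'
      obtain ⟨y, hy, hyU⟩ := hd.inter_open_nonempty _ (X.basicOpen (∏ q', z q')).2 ⟨hV.fromSpec q, (hmem q _).2 hbq⟩
      have hyV : y ∈ V := X.basicOpen_le _ hy
      obtain ⟨q₀, hq₀, hq₀y⟩ := Ideal.exists_minimalPrimes_le (I := (⊥ : Ideal Γ(X, V)))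
        (J := (hV.primeIdealOf ⟨y, hyV⟩).asIdeal) bot_le
      have hq₀q : q₀ = q.asIdeal := by
        by_contra hne
        have hk := Finset.mem_erase.2 ⟨hne, hfin.mem_toFinset.2 hq₀⟩
        exact (hmem' y hyV _).1 hy (hq₀y (prod_mem_of_mem z _ ⟨q₀, hk⟩ (hz ⟨q₀, hk⟩)))
      have hsp : q ⤳ hV.primeIdealOf ⟨y, hyV⟩ := (PrimeSpectrum.le_iff_specializes _ _).1
        (show q.asIdeal ≤ (hV.primeIdealOf ⟨y, hyV⟩).asIdeal by rw [← hq₀q]; exact hq₀y)
      have := hsp.map hV.fromSpec.continuous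
      rw [hfs] at this
      exact h (this.mem_open U.2 hyU)
  have hFfin : F.Finite := by
    let Z : Set (PrimeSpectrum Γ(X, V)) := {q | t ∈ q.asIdeal ∨ hV.fromSpec q ∉ U}
    have hZc : IsClosed Z := by
      have h1 : IsClosed {q : PrimeSpectrum Γ(X, V) | t ∈ q.asIdeal} := by
        have := PrimeSpectrum.isClosed_zeroLocus ({t} : Set Γ(X, V))
        simpa [PrimeSpectrum.zeroLocus] using this
      exact h1.union (U.2.isClosed_compl.preimage hV.fromSpec.continuous)
    obtain ⟨S, hS, hSc, hSi, hSZ⟩ := NoetherianSpace.exists_finite_set_isClosed_irreducible hZc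
    suffices hZf : Z.Finite from hZf.subset (fun q (hq : q ∈ F) => (hq.1 : q ∈ Z))
    rw [hSZ]
    refine hS.sUnion fun C hC => Set.Subsingleton.finite ?_
    obtain ⟨g, hg⟩ := QuasiSober.sober (hSi C hC) (hSc C hC)
    have hgZ : g ∈ Z := hSZ ▸ Set.mem_sUnion_of_mem hg.mem hC
    have hgmax := hprime_max g (hZ g hgZ)
    have key : ∀ q ∈ C, q = g := fun q hq => PrimeSpectrum.ext
      (hgmax.eq_of_le q.isPrime.ne_top ((PrimeSpectrum.le_iff_specializes g q).2 (hg.specializes hq))).symm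
    exact fun a ha b hb => (key a ha).trans (key b hb).symm
  obtain ⟨h, hhp, hhF⟩ : ∃ h : Γ(X, V), h ∉ p ∧ ∀ q ∈ F, h ∈ q.asIdeal := by
    have : ∀ q : hFfin.toFinset, ∃ z ∈ q.1.asIdeal, z ∉ p := fun q => by
      obtain ⟨hqZ, hne⟩ := hFfin.mem_toFinset.1 q.2
      have hqmax := hprime_max q.1 (hZ q.1 hqZ)
      exact SetLike.not_le_iff_exists.1 fun hle => hne (hqmax.eq_of_le (hV.primeIdealOf ⟨x, hxV⟩).isPrime.ne_top hle)
    choose z hz hzp using this
    refine ⟨∏ q, z q, fun h' => ?_, fun q hq =>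
      prod_mem_of_mem z _ ⟨q, hFfin.mem_toFinset.2 hq⟩ (hz ⟨q, hFfin.mem_toFinset.2 hq⟩)⟩
    obtain ⟨q, -, hq'⟩ := (Ideal.IsPrime.prod_mem_iff (p := p)).1 h'
    exact hzp q hq'
  -- `D(h)` meets the complement of `U` only in `x`
  have honly : ∀ q : PrimeSpectrum Γ(X, V), h ∉ q.asIdeal → (t ∈ q.asIdeal ∨ hV.fromSpec q ∉ U) → q.asIdeal = p :=
    fun q hq hZq => by_contra fun hne => hq (hhF q ⟨hZq, hne⟩)
  have hDU : X.basicOpen (h * t) ≤ U := fun y hy => by
    have hyV : y ∈ V := X.basicOpen_le _ hy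
    replace hy := (hmem' y hyV _).1 hy
    by_contra hyU
    rw [← hfs y hyV] at hyU
    have := honly _ (fun h' => hy (Ideal.mul_mem_right _ _ h')) (Or.inr hyU)
    exact hy (Ideal.mul_mem_left _ _ (this.symm ▸ htp))
  have hUD : X.basicOpen h ⊓ U ≤ X.basicOpen (h * t) := fun y ⟨hy, hyU⟩ => by
    have hyV : y ∈ V := X.basicOpen_le _ hy
    refine (hmem' y hyV _).2 ?_
    replace hy := (hmem' y hyV _).1 hy
    intro hht
    rcases Ideal.IsPrime.mem_or_mem inferInstance hht with h' | h'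
    · exact hy h'
    · have e : hV.primeIdealOf ⟨y, hyV⟩ = hV.primeIdealOf ⟨x, hxV⟩ := PrimeSpectrum.ext (honly _ hy (Or.inl h'))
      have hyx := congrArg hV.fromSpec e
      rw [hfs, hfs] at hyx
      exact hxU (hyx ▸ hyU)
  -- algebra
  let R := Localization.AtPrime p
  haveI : IsNoetherianRing R := IsLocalization.isNoetherianRing p.primeCompl R inferInstance
  haveI : Ring.KrullDimLE 1 R := krullDimLE_one_atPrime p
  let t' : R := algebraMap Γ(X, V) R (h * t)
  have ht' : t' ∈ IsLocalRing.maximalIdeal R := by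
    rw [← Localization.AtPrime.map_eq_maximalIdeal]
    exact Ideal.mem_map_of_mem _ (Ideal.mul_mem_left _ _ htp)
  have ht'min : ∀ P ∈ minimalPrimes R, t' ∉ P := fun P hP htP => by
    haveI := hP.1.1
    have hc : (P.comap (algebraMap Γ(X, V) R)).IsPrime := Ideal.IsPrime.comap _
    have hdisj : Disjoint (p.primeCompl : Set Γ(X, V)) (P.comap (algebraMap Γ(X, V) R)) :=
      ((IsLocalization.isPrime_iff_isPrime_disjoint p.primeCompl R P).1 hP.1.1).2
    have hmin : P.comap (algebraMap Γ(X, V) R) ∈ minimalPrimes Γ(X, V) := by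
      refine ⟨⟨hc, bot_le⟩, fun J hJ hJle => ?_⟩
      have hJd : Disjoint (p.primeCompl : Set Γ(X, V)) J := hdisj.mono_right hJle
      have hJp := IsLocalization.isPrime_of_isPrime_disjoint p.primeCompl R J hJ.1 hJd
      have hle := hP.2 ⟨hJp, bot_le⟩ (Ideal.map_le_iff_le_comap.2 hJle)
      calc P.comap (algebraMap Γ(X, V) R) ≤ (J.map (algebraMap Γ(X, V) R)).comap (algebraMap Γ(X, V) R) :=
            Ideal.comap_mono hle
        _ = J := IsLocalization.under_map_of_isPrime_disjoint p.primeCompl R hJ.1 hJd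
    rcases Ideal.IsPrime.mem_or_mem hc (show h * t ∈ P.comap (algebraMap Γ(X, V) R) from htP) with h' | h'
    · exact hhp ((IsLocalization.AtPrime.under_maximalIdeal R p).le
        (Ideal.comap_mono (IsLocalRing.le_maximalIdeal hP.1.1.ne_top) h'))
    · exact htmin _ hmin h'
  let Q := Localization.Away t'
  obtain ⟨ι, hι, K, hK, φ, v, hv1, hvm, hv⟩ := exists_branches R t' ht' ht'min Q
  haveI := hι
  have hlift : IsUnit ((algebraMap R Q).comp (algebraMap Γ(X, V) R) (h * t)) :=
    IsLocalization.map_units Q ⟨t', Submonoid.mem_powers t'⟩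
  haveI := hV.isLocalization_basicOpen (h * t)
  let toQ : Γ(X, X.basicOpen (h * t)) →+* Q := IsLocalization.Away.lift (h * t) hlift
  have htoQ : ∀ b : Γ(X, V), toQ (ores (X.basicOpen_le _) b) = algebraMap R Q (algebraMap Γ(X, V) R b) := fun b =>
    IsLocalization.Away.lift_eq (h * t) hlift b
  let χ : Γ(X, U) →+* Q := toQ.comp (ores hDU)
  let w : ι → Valuation Γ(X, U) (WithZero (Multiplicative ℤ)) := fun i => (v i).comap ((φ i).comp χ)
  -- the generic point of a branch
  have hgen : ∀ i, ∀ b : Γ(X, V), b ∈ p → v i (φ i (algebraMap R Q (algebraMap Γ(X, V) R b))) < 1 := fun i b hb => by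
    refine hvm i _ ?_
    rw [← Localization.AtPrime.map_eq_maximalIdeal]
    exact Ideal.mem_map_of_mem _ hb
  refine ⟨ι, inferInstance, w, fun i => ?_, fun i => ?_, fun f hf => ?_, fun hle i b => ?_⟩
  · by_contra! hall
    let O := (v i).valuationSubring
    let α : Γ(X, U) →+* O := ((φ i).comp χ).codRestrict O.toSubring fun a => hall a
    let β : Γ(X, V) →+* O :=
      ((φ i).comp ((algebraMap R Q).comp (algebraMap Γ(X, V) R))).codRestrict O.toSubring fun b => hv1 i _
    let m₁ : Spec (CommRingCat.of O) ⟶ X := Spec.map (CommRingCat.ofHom α) ≫ hU.fromSpec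
    let m₂ : Spec (CommRingCat.of O) ⟶ X := Spec.map (CommRingCat.ofHom β) ≫ hV.fromSpec
    let γ : Spec (CommRingCat.of (K i)) ⟶ Spec (CommRingCat.of O) := Spec.map (CommRingCat.ofHom O.subtype)
    haveI : IsDominant γ := ⟨(PrimeSpectrum.denseRange_comap_iff_ker_le_nilRadical O.subtype).2 (by
      rw [(RingHom.injective_iff_ker_eq_bot _).1 Subtype.val_injective]; exact bot_le)⟩
    have hagree : γ ≫ m₁ = γ ≫ m₂ := by
      have hD : IsAffineOpen (X.basicOpen (h * t)) := hV.basicOpen _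
      simp only [γ, m₁, m₂, ← Category.assoc, ← Spec.map_comp]
      have e1 : CommRingCat.ofHom α ≫ CommRingCat.ofHom O.subtype =
          X.presheaf.map (homOfLE hDU).op ≫ CommRingCat.ofHom ((φ i).comp toQ) := rfl
      have e2 : CommRingCat.ofHom β ≫ CommRingCat.ofHom O.subtype =
          X.presheaf.map (homOfLE (X.basicOpen_le (h * t))).op ≫ CommRingCat.ofHom ((φ i).comp toQ) := by
        ext b
        exact congrArg (φ i) (htoQ b).symm
      rw [e1, e2, Spec.map_comp, Spec.map_comp, Category.assoc, Category.assoc, hU.map_fromSpec hD,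
        hV.map_fromSpec hD]
    have hm : m₁ = m₂ :=
      ext_of_isDominant_of_isSeparated (Limits.terminal.from X) (Subsingleton.elim _ _) γ hagree
    have hx2 : m₂ (IsLocalRing.closedPoint O) = x := by
      show hV.fromSpec (Spec.map (CommRingCat.ofHom β) (IsLocalRing.closedPoint O)) = x
      have e : Spec.map (CommRingCat.ofHom β) (IsLocalRing.closedPoint O) = hV.primeIdealOf ⟨x, hxV⟩ := by
        refine PrimeSpectrum.ext (Ideal.ext fun b => ?_)
        show β b ∈ IsLocalRing.maximalIdeal O ↔ b ∈ p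
        constructor
        · intro hb
          by_contra hbp
          have hu : IsUnit (algebraMap Γ(X, V) R b) := IsLocalization.map_units R (⟨b, hbp⟩ : p.primeCompl)
          exact (IsLocalRing.mem_maximalIdeal _).1 hb (by
            obtain ⟨r, hr⟩ := hu.exists_right_inv
            refine IsUnit.of_mul_eq_one (a := β b) ⟨φ i (algebraMap R Q r), hv1 i r⟩ (Subtype.ext ?_)
            show φ i (algebraMap R Q (algebraMap Γ(X, V) R b)) * φ i (algebraMap R Q r) = 1
            rw [← map_mul, ← map_mul, hr, map_one, map_one])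
        · intro hb
          rw [IsLocalRing.mem_maximalIdeal, mem_nonunits_iff]
          intro hu
          obtain ⟨r, hr⟩ := hu.exists_right_inv
          have e1 := congrArg (fun z : O => v i z.1) hr
          simp only [MulMemClass.coe_mul, map_mul, OneMemClass.coe_one, map_one] at e1
          exact (mul_lt_one_of_lt_of_le (hgen i b hb) r.2).ne e1
      rw [e, hfs]
    have hx1 : m₁ (IsLocalRing.closedPoint O) ∈ U := by
      rw [← SetLike.mem_coe, ← hU.range_fromSpec]
      exact ⟨_, rfl⟩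
    rw [hm, hx2] at hx1
    exact hxU hx1
  · let z' : Spec (CommRingCat.of (K i)) := ⟨⊥, Ideal.isPrime_bot⟩
    let q : PrimeSpectrum Γ(X, U) := ⟨RingHom.ker ((φ i).comp χ), RingHom.ker_isPrime _⟩
    have hzU : hU.fromSpec q ∈ U := by
      rw [← SetLike.mem_coe, ← hU.range_fromSpec]
      exact ⟨_, rfl⟩
    have hzV : hU.fromSpec q ∈ V := by
      have hD : IsAffineOpen (X.basicOpen (h * t)) := hV.basicOpen _
      have e : (Spec.map (CommRingCat.ofHom ((φ i).comp toQ)) ≫ hD.fromSpec) z' = hU.fromSpec q := by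
        rw [← hU.map_fromSpec hD (homOfLE hDU).op, ← Category.assoc, ← Spec.map_comp, Scheme.Hom.comp_apply]
        refine congrArg hU.fromSpec (PrimeSpectrum.ext ?_)
        exact RingHom.ker_eq_comap_bot _ |>.symm
      rw [← e]
      refine X.basicOpen_le (h * t) ?_
      rw [← SetLike.mem_coe, ← hD.range_fromSpec, Scheme.Hom.comp_apply]
      exact ⟨_, rfl⟩
    obtain ⟨a, ha, hza⟩ := hU.exists_basicOpen_le ⟨hU.fromSpec q, hzV⟩ hzU
    refine ⟨a, ha, fun h0 => ?_⟩
    have hq : a ∉ q.asIdeal := by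
      rw [← PrimeSpectrum.mem_basicOpen, ← hU.fromSpec_preimage_basicOpen]
      exact hza
    exact hq ((Valuation.zero_iff (v i)).1 h0)
  · obtain ⟨N, hN, r, hr, hrf⟩ := hv (χ f) fun i => hf i
    obtain ⟨⟨r₀, s⟩, hs⟩ := IsLocalization.surj p.primeCompl r
    obtain ⟨⟨b, ⟨_, k, rfl⟩⟩, hb⟩ := IsLocalization.surj (Submonoid.powers (h * t)) (ores hDU (f ^ N))
    have hb' : ores hDU (f ^ N) * ores (X.basicOpen_le _) ((h * t) ^ k) = ores (X.basicOpen_le _) b := hb
    have key : algebraMap R Q (algebraMap Γ(X, V) R (r₀ * b)) =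
        algebraMap R Q (algebraMap Γ(X, V) R (s.1 * (h * t) ^ k)) := by
      have h2 : χ f ^ N * algebraMap R Q (algebraMap Γ(X, V) R ((h * t) ^ k)) =
          algebraMap R Q (algebraMap Γ(X, V) R b) := by
        rw [← htoQ b, ← hb', map_mul, htoQ, ← map_pow χ]
        rfl
      simp only [map_mul] at hs ⊢
      rw [← hs, map_mul, ← h2]
      linear_combination (algebraMap R Q (algebraMap Γ(X, V) R s.1) *
        algebraMap R Q (algebraMap Γ(X, V) R ((h * t) ^ k))) * hrf
    obtain ⟨⟨_, m, rfl⟩, hm⟩ := (IsLocalization.eq_iff_exists (Submonoid.powers t') Q).1 key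
    have hm' : algebraMap Γ(X, V) R ((h * t) ^ m * (r₀ * b)) =
        algebraMap Γ(X, V) R ((h * t) ^ m * (s.1 * (h * t) ^ k)) := by
      rw [map_mul, map_mul _ ((h * t) ^ m), map_pow]
      exact hm
    obtain ⟨⟨s', hs'⟩, hss⟩ := (IsLocalization.eq_iff_exists p.primeCompl R).1 hm'
    let H := h * s.1 * s'
    have hHp : H ∉ p := fun hH => by
      have hp : p.IsPrime := (hV.primeIdealOf ⟨x, hxV⟩).isPrime
      rcases hp.mem_or_mem hH with h' | h'
      · rcases hp.mem_or_mem h' with h'' | h''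
        · exact hhp h''
        · exact s.2 h''
      · exact hs' h'
    have hunit : ∀ {u : Γ(X, V)} {O : X.Opens} (hO : O ≤ V), O ≤ X.basicOpen u → IsUnit (ores hO u) :=
      fun {u O} hO hle => RingedSpace.isUnit_of_isUnit_germ X.toRingedSpace O _ fun y hy => by
        erw [TopCat.Presheaf.germ_res_apply]
        exact (X.mem_basicOpen u y (hO hy)).1 (hle hy)
    let W := X.basicOpen H
    have hWV : W ≤ V := X.basicOpen_le _
    have hWh : W ≤ X.basicOpen h := by
      simp only [W, H, Scheme.basicOpen_mul]; exact inf_le_left.trans inf_le_left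
    have hWs : W ≤ X.basicOpen s.1 := by
      simp only [W, H, Scheme.basicOpen_mul]; exact inf_le_left.trans inf_le_right
    obtain ⟨si, hsi⟩ := (hunit hWV hWs).exists_right_inv
    refine ⟨N, W, ores hWV r₀ * si, hN, ?_, hWV, fun y hy hyU => ?_, fun hx => ?_, ?_⟩
    · exact (hmem' x hxV H).2 hHp
    · have hyV := hWV hy
      have hyh := hWh hy
      replace hyh := (hmem' y hyV _).1 hyh
      rw [← hfs y hyV] at hyU
      have := congrArg hV.fromSpec (PrimeSpectrum.ext (honly _ hyh (Or.inr hyU)) :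
        hV.primeIdealOf ⟨y, hyV⟩ = hV.primeIdealOf ⟨x, hxV⟩)
      rwa [hfs, hfs] at this
    · rw [Scheme.basicOpen_mul] at hx
      have hx0 := hx.1
      rw [ores, Scheme.basicOpen_res] at hx0
      have hx1 := hx0.2
      refine (hmem' x hxV _).1 hx1 ?_
      have : algebraMap Γ(X, V) R r₀ ∈ IsLocalRing.maximalIdeal R := by
        rw [← hs]; exact Ideal.mul_mem_right _ _ hr
      exact (IsLocalization.AtPrime.under_maximalIdeal R p).le this
    · set O := W ⊓ U
      have hOV : O ≤ V := inf_le_left.trans hWV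
      have hOD : O ≤ X.basicOpen (h * t) := (inf_le_inf_right U hWh).trans hUD
      have e1 := congrArg (ores hOV) hss
      have e2 := congrArg (ores (inf_le_left : O ≤ W)) hsi
      have e3 := congrArg (ores hOD) hb'
      simp only [map_mul, map_one, map_pow, ores_ores] at e1 e2 e3 ⊢
      have hu : IsUnit (ores hOV s' * (ores hOV h * ores hOV t) ^ m * ((ores hOV h * ores hOV t) ^ k) * ores hOV s.1) := by
        have h1 : IsUnit (ores hOV h * ores hOV t) := by rw [← map_mul]; exact hunit hOV hOD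
        have h2 : IsUnit (ores hOV s') := hunit hOV (inf_le_left.trans (by
          simp only [W, H, Scheme.basicOpen_mul]; exact inf_le_right))
        exact ((h2.mul (h1.pow m)).mul (h1.pow k)).mul (hunit hOV (inf_le_left.trans hWs))
      refine hu.mul_left_cancel ?_
      linear_combination e1
        + (ores hOV s' * (ores hOV h * ores hOV t) ^ m * ores hOV r₀ * ores (inf_le_right : O ≤ U) f ^ N *
            (ores hOV h * ores hOV t) ^ k) * e2
        + (ores hOV s' * (ores hOV h * ores hOV t) ^ m * ores hOV r₀) * e3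
  · have e : w i (ores hle b) = v i (φ i (algebraMap R Q (algebraMap Γ(X, V) R b))) := by
      show v i (φ i (toQ (ores hDU (ores hle b)))) = _
      rw [ores_ores, htoQ]
    rw [e]
    exact ⟨hv1 i _, hgen i b⟩

theorem exists_local_valuations [IsLocallyNoetherian X] [X.IsSeparated] (hdim : topologicalKrullDim X ≤ 1)
    {U V : X.Opens} (hU : IsAffineOpen U) (hV : IsAffineOpen V) (hd : Dense (U : Set X))
    {x : X} (hxU : x ∉ U) (hxV : x ∈ V) :
    ∃ (ι : Type u) (_ : Finite ι) (w : ι → Valuation Γ(X, U) (WithZero (Multiplicative ℤ))),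
      (∀ i, ∃ a : Γ(X, U), 1 < w i a) ∧ (∀ i, ∃ a : Γ(X, U), X.basicOpen a ≤ V ∧ w i a ≠ 0) ∧
      ∀ f : Γ(X, U), (∀ i, 1 < w i f) →
        ∃ (N : ℕ) (W : X.Opens) (g : Γ(X, W)), 0 < N ∧ x ∈ W ∧ W ≤ V ∧ (∀ y ∈ W, y ∉ U → y = x) ∧
          x ∉ X.basicOpen g ∧
          ores (inf_le_left : W ⊓ U ≤ W) g * ores (inf_le_right : W ⊓ U ≤ U) (f ^ N) = 1 := by
  obtain ⟨ι, hι, w, h1, h2, h3, -⟩ := exists_local_valuations' hdim hU hV hd hxU hxV
  exact ⟨ι, hι, w, h1, h2, h3⟩

end Groth.Agent.DimOneAmple
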