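import Groth.Agent.DimOneAmple.Local
import Groth.Agent.PerfLib.Cocycle
import Groth.Agent.GenLocus.Ample

/-!
# An ample module on a one-dimensional separated scheme covered by two affines, one of them dense
-/

set_option autoImplicit false
set_option backward.isDefEq.respectTransparency false
set_option backward.isDefEq.respectTransparency.types false
set_option linter.style.haveILetI false

noncomputable section

universe u

open CategoryTheory AlgebraicGeometry Opposite TopologicalSpace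
open Groth.Agent.QCohBase Groth.Agent.GenLocus

namespace Groth.Agent.DimOneAmple

variable {X : Scheme.{u}}

/-- The functions on `U` whose non-vanishing locus lies in `V`. -/
def locIdeal (U V : X.Opens) : Ideal Γ(X, U) where
  carrier := {a | X.basicOpen a ≤ V}
  zero_mem' := by simp [Scheme.basicOpen_zero]
  add_mem' := fun {a b} ha hb y hy => by
    have hyU : y ∈ U := X.basicOpen_le _ hy
    rw [X.mem_basicOpen _ y hyU, map_add] at hy
    rcases IsLocalRing.isUnit_or_isUnit_of_isUnit_add hy with h | h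
    · exact ha ((X.mem_basicOpen _ y hyU).2 h)
    · exact hb ((X.mem_basicOpen _ y hyU).2 h)
  smul_mem' := fun c a ha => by
    show X.basicOpen (c * a) ≤ V
    rw [Scheme.basicOpen_mul]
    exact inf_le_right.trans ha

theorem ores_inv_unique {O : X.Opens} {a b c : Γ(X, O)} (h : a * c = 1) (h' : b * c = 1) : a = b :=
  calc a = a * (b * c) := by rw [h', mul_one]
    _ = b * (a * c) := mul_left_comm _ _ _
    _ = b := by rw [h, mul_one]

/-- Two charts with inverse transition functions give a module with two sections whose loci are the charts. -/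
theorem exists_ample_of_charts [CompactSpace X] {U W : X.Opens} (hU : IsAffineOpen U) (hW : IsAffineOpen W ∨
    ∃ V : X.Opens, IsAffineOpen V ∧ W ≤ V) (hcov : U ⊔ W = ⊤) (f : Γ(X, U)) (g : Γ(X, W))
    (hfg : ores (inf_le_right : U ⊓ W ≤ W) g * ores (inf_le_left : U ⊓ W ≤ U) f = 1)
    (hf : X.basicOpen f ≤ W) (hg : X.basicOpen g ≤ U) : ∃ L : X.Modules, CohB1.IsAmple L := by
  classical
  have hmem : ∀ x : X, x ∈ U ∨ x ∈ W := fun x => by
    rw [← Opens.mem_sup, hcov]; trivial
  let A : ULift.{u} Bool → X.Opens := fun i => if i.down then U else W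
  let c : ∀ i j : ULift.{u} Bool, Γ(X, A i ⊓ A j) := fun i j =>
    match i, j with
    | ⟨true⟩, ⟨true⟩ => 1
    | ⟨false⟩, ⟨false⟩ => 1
    | ⟨true⟩, ⟨false⟩ => ores (inf_le_right : U ⊓ W ≤ W) g
    | ⟨false⟩, ⟨true⟩ => ores (inf_le_right : W ⊓ U ≤ U) f
  have hgf : ∀ (x : X) (hxU : x ∈ U) (hxW : x ∈ W),
      X.presheaf.germ W x hxW g * X.presheaf.germ U x hxU f = 1 := fun x hxU hxW => by
    have := congrArg (X.presheaf.germ (U ⊓ W) x ⟨hxU, hxW⟩) hfg
    rw [map_mul, map_one, PerfLib.Cocycle.germ_mres, PerfLib.Cocycle.germ_mres] at this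
    exact this
  let d : PerfLib.Cocycle X (ULift.{u} Bool) :=
    { A := A
      cover := fun x => (hmem x).elim (fun h => ⟨⟨true⟩, h⟩) fun h => ⟨⟨false⟩, h⟩
      c := c
      self := by rintro ⟨_ | _⟩ <;> rfl
      cocycle := by
        rintro ⟨_ | _⟩ ⟨_ | _⟩ ⟨_ | _⟩ x hi hj hk <;>
          simp only [c, map_one, one_mul, mul_one]
        all_goals erw [PerfLib.Cocycle.germ_mres, PerfLib.Cocycle.germ_mres]
        all_goals first
          | exact hgf x hi hj
          | exact hgf x hj hi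
          | exact (mul_comm _ _).trans (hgf x hj hi) }
  let eU : Γ(d.mod, U) := d.gen ⟨true⟩
  let eW : Γ(d.mod, W) := d.gen ⟨false⟩
  have heU : IsFrame d.mod eU := d.isFrame_gen ⟨true⟩
  have heW : IsFrame d.mod eW := d.isFrame_gen ⟨false⟩
  have hUW : ores (inf_le_right : U ⊓ W ≤ W) g • mres d.mod inf_le_right eW = mres d.mod inf_le_left eU :=
    d.gen_eq ⟨true⟩ ⟨false⟩
  have hWU : ores (inf_le_right : W ⊓ U ≤ U) f • mres d.mod inf_le_right eU = mres d.mod inf_le_left eW :=
    d.gen_eq ⟨false⟩ ⟨true⟩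
  -- gluing of sections
  have glue : ∀ (a : Γ(d.mod, U)) (b : Γ(d.mod, W)),
      mres d.mod (inf_le_left : U ⊓ W ≤ U) a = mres d.mod (inf_le_right : U ⊓ W ≤ W) b →
      ∃ s : Coh.structureModule X ⟶ d.mod, sect s U = a ∧ sect s W = b := by
    intro a b hab
    let σ : ∀ i : ULift.{u} Bool, Γ(d.mod, A i) := fun i =>
      match i with
      | ⟨true⟩ => a
      | ⟨false⟩ => b
    obtain ⟨τ, hτ, -⟩ := TopCat.Sheaf.existsUnique_gluing' ⟨d.mod.presheaf, d.mod.isSheaf⟩ A ⊤
      (fun i => homOfLE le_top)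
      (fun x _ => (d.cover x).elim fun i hi => Opens.mem_iSup.2 ⟨i, hi⟩) σ (by
        rintro ⟨_ | _⟩ ⟨_ | _⟩
        · rfl
        · have := congrArg (mres d.mod (show W ⊓ U ≤ U ⊓ W from inf_comm W U ▸ le_rfl)) hab
          rw [mres_mres, mres_mres] at this
          exact this.symm
        · exact hab
        · rfl)
    exact ⟨homOfSection _ τ, (sect_homOfSection _ τ _).trans (hτ ⟨true⟩),
      (sect_homOfSection _ τ _).trans (hτ ⟨false⟩)⟩
  obtain ⟨s₁, hs₁U, hs₁W⟩ := glue eU (g • eW) (by rw [mres_smul]; exact hUW.symm)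
  obtain ⟨s₂, hs₂U, hs₂W⟩ := glue (f • eU) eW (by
    rw [mres_smul, ← hUW, smul_smul, mul_comm, hfg, one_smul])
  have h1 : CohB1.genLocus _ s₁ = U := by
    have e1 := genLocus_inf_eq_basicOpen s₁ heU (f := 1) (by rw [one_smul, hs₁U])
    have e2 := genLocus_inf_eq_basicOpen s₁ heW hs₁W.symm
    rw [X.basicOpen_of_isUnit isUnit_one] at e1
    refine le_antisymm (fun x hx => (hmem x).elim id fun h => ?_) (e1 ▸ inf_le_left)
    exact hg (e2.le ⟨hx, h⟩)
  have h2 : CohB1.genLocus _ s₂ = W := by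
    have e1 := genLocus_inf_eq_basicOpen s₂ heW (f := 1) (by rw [one_smul, hs₂W])
    have e2 := genLocus_inf_eq_basicOpen s₂ heU hs₂U.symm
    rw [X.basicOpen_of_isUnit isUnit_one] at e1
    refine le_antisymm (fun x hx => (hmem x).elim (fun h => hf (e2.le ⟨hx, h⟩)) id) (e1 ▸ inf_le_left)
  have hWaff : IsAffineOpen W := hW.elim id fun ⟨V, hV, hWV⟩ => by
    have := isAffineOpen_genLocus_inf d.isInvertible s₂ hV
    rwa [h2, inf_eq_left.2 hWV] at this
  refine ⟨d.mod, d.isInvertible, inferInstance, fun x => ?_⟩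
  rcases hmem x with hx | hx
  · refine ⟨0, SecTwist.powHom s₁ 1, ?_⟩
    rw [genLocus_powHom d.isInvertible s₁ 0, h1]
    exact ⟨hx, hU⟩
  · refine ⟨0, SecTwist.powHom s₂ 1, ?_⟩
    rw [genLocus_powHom d.isInvertible s₂ 0, h2]
    exact ⟨hx, hWaff⟩

/-- A one-dimensional separated scheme covered by two affines, one of them dense, has an ample module. -/
theorem exists_ample_two [IsNoetherian X] [X.IsSeparated] (hdim : topologicalKrullDim X ≤ 1) {U V : X.Opens}
    (hU : IsAffineOpen U) (hV : IsAffineOpen V) (hd : Dense (U : Set X)) (hUV : U ⊔ V = ⊤) :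
    ∃ L : X.Modules, CohB1.IsAmple L := by
  classical
  let C : Set X := (U : Set X)ᶜ
  have hCV : ∀ x ∈ C, x ∈ V := fun x hx => by
    have : x ∈ U ⊔ V := by rw [hUV]; trivial
    exact (Opens.mem_sup.1 this).resolve_left hx
  choose ι hι w hw1 hwV hwN using fun x : C =>
    exists_local_valuations hdim hU hV hd (x := x.1) x.2 (hCV x.1 x.2)
  have hI : ∀ (x : C) i, ∃ a ∈ locIdeal U V, 1 < w x i a := fun x i => by
    obtain ⟨b, hb⟩ := hw1 x i
    obtain ⟨a, haV, ha⟩ := hwV x i
    obtain ⟨n, hn⟩ := MulArchimedean.arch (w x i a)⁻¹ hb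
    refine ⟨a * b ^ (n + 1), Ideal.mul_mem_right _ _ haV, ?_⟩
    rw [map_mul, map_pow]
    calc (1 : WithZero (Multiplicative ℤ)) = w x i a * (w x i a)⁻¹ := (mul_inv_cancel₀ ha).symm
      _ < w x i a * w x i b ^ (n + 1) :=
        mul_lt_mul_of_pos_left (hn.trans_lt (pow_lt_pow_right₀ hb n.lt_succ_self)) (zero_lt_iff.2 ha)
  -- the complement of `U` is finite
  have hCfin : C.Finite := by
    have : ∀ x : C, ∃ W : X.Opens, x.1 ∈ W ∧ ∀ y ∈ W, y ∉ U → y = x.1 := fun x => by
      haveI := hι x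
      obtain ⟨a, -, ha⟩ := exists_all_gt (w x) (locIdeal U V) (hI x)
      obtain ⟨N, W, g, -, hxW, -, honly, -⟩ := hwN x a ha
      exact ⟨W, hxW, honly⟩
    choose W hxW honly using this
    obtain ⟨t, ht⟩ := (U.2.isClosed_compl.isCompact).elim_finite_subcover (fun x : C => (W x : Set X))
      (fun x => (W x).2) fun x hx => Set.mem_iUnion.2 ⟨⟨x, hx⟩, hxW _⟩
    refine (t.finite_toSet.image Subtype.val).subset fun y hy => ?_
    obtain ⟨x, hxt, hyx⟩ := Set.mem_iUnion₂.1 (ht hy)
    exact ⟨x, hxt, (honly x y hyx hy).symm⟩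
  haveI : Fintype C := hCfin.fintype
  haveI : ∀ x : C, Finite (ι x) := hι
  obtain ⟨f₀, hf₀V, hf₀⟩ := exists_all_gt (fun z : Σ x : C, ι x => w z.1 z.2) (locIdeal U V) fun z => hI z.1 z.2
  choose N W g hN hxW hWV honly hgx hgf using fun x : C => hwN x f₀ fun i => hf₀ ⟨x, i⟩
  let M := ∏ x : C, N x
  have hdvd : ∀ x, N x ∣ M := fun x => Finset.dvd_prod_of_mem _ (Finset.mem_univ x)
  have hM : 0 < M := Finset.prod_pos fun x _ => hN x
  choose k hk using hdvd
  let f := f₀ ^ M
  have hfV : X.basicOpen f ≤ V := by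
    rw [Scheme.basicOpen_pow _ _ hM]; exact hf₀V
  have hinv : ∀ (x : C) (O : X.Opens) (h : O ≤ W x) (h' : O ≤ U),
      ores h (g x ^ k x) * ores h' f = 1 := fun x O h h' => by
    have e := congrArg (ores (le_inf h h')) (hgf x)
    simp only [map_mul, map_one, ores_ores] at e
    have e' := congrArg (· ^ k x) e
    simp only [mul_pow, one_pow] at e'
    rw [← map_pow, ← map_pow, ← pow_mul, ← hk x] at e'
    exact e'
  obtain ⟨fi, hfi'⟩ : ∃ fi : Γ(X, X.basicOpen f), fi * ores (X.basicOpen_le f) f = 1 :=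
    (show IsUnit (ores (X.basicOpen_le f) f) from RingedSpace.isUnit_res_basicOpen X.toRingedSpace f).exists_left_inv
  let A : Option C → X.Opens := fun z => z.elim (X.basicOpen f) W
  let G : ∀ z : Option C, Γ(X, A z) := fun z =>
    match z with
    | none => fi
    | some x => g x ^ k x
  have hAU : ∀ a b : Option C, a ≠ b → A a ⊓ A b ≤ U := by
    rintro (_ | x) (_ | y) hne z ⟨hza, hzb⟩
    · exact absurd rfl hne
    · exact X.basicOpen_le f hza
    · exact X.basicOpen_le f hzb
    · by_contra hzU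
      exact hne (congrArg some (Subtype.ext ((honly x z hza hzU).symm.trans (honly y z hzb hzU))))
  have hG : ∀ (z : Option C) (O : X.Opens) (h : O ≤ A z) (h' : O ≤ U), ores h (G z) * ores h' f = 1 := by
    rintro (_ | x) O h h'
    · have e := congrArg (ores h) hfi'
      rw [map_mul, map_one] at e
      erw [ores_ores] at e
      exact e
    · exact hinv x O h h'
  have hcompat : ∀ a b : Option C, ores (inf_le_left : A a ⊓ A b ≤ A a) (G a) =
      ores (inf_le_right : A a ⊓ A b ≤ A b) (G b) := by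
    intro a b
    by_cases hab : a = b
    · subst hab; rfl
    · exact ores_inv_unique (hG a _ inf_le_left (hAU a b hab)) (hG b _ inf_le_right (hAU a b hab))
  obtain ⟨gg, hgg, -⟩ := X.sheaf.existsUnique_gluing' A (⨆ z, A z) (fun z => homOfLE (le_iSup A z))
    le_rfl G hcompat
  have hgg' : ∀ z, ores (le_iSup A z) gg = G z := hgg
  have hWle : (⨆ z, A z) ≤ V := iSup_le fun z => by
    cases z with
    | none => exact hfV
    | some x => exact hWV x
  have hcap : U ⊓ (⨆ z, A z) ≤ X.basicOpen f := fun y ⟨hyU, hy⟩ => by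
    obtain ⟨z, hz⟩ := Opens.mem_iSup.1 hy
    have hu : IsUnit (ores (inf_le_right : A z ⊓ U ≤ U) f) :=
      IsUnit.of_mul_eq_one _ ((mul_comm _ _).trans (hG z _ inf_le_left inf_le_right))
    have : y ∈ X.basicOpen (ores (inf_le_right : A z ⊓ U ≤ U) f) := by
      rw [X.basicOpen_of_isUnit hu]; exact ⟨hz, hyU⟩
    rw [ores, Scheme.basicOpen_res] at this
    exact this.2
  refine exists_ample_of_charts hU (Or.inr ⟨V, hV, hWle⟩) ?_ f gg ?_
    (le_iSup A none) fun y hy => ?_
  · refine eq_top_iff.2 fun y _ => ?_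
    by_cases hy : y ∈ U
    · exact Or.inl hy
    · exact Or.inr (Opens.mem_iSup.2 ⟨some ⟨y, hy⟩, hxW _⟩)
  · have e := hG none (U ⊓ ⨆ z, A z) hcap inf_le_left
    rw [← hgg' none, ores_ores] at e
    exact e
  · by_contra hyU
    refine hgx ⟨y, hyU⟩ ?_
    have h1 : y ∈ X.basicOpen (ores (le_iSup A (some ⟨y, hyU⟩)) gg) := by
      rw [ores, Scheme.basicOpen_res]
      exact ⟨hxW ⟨y, hyU⟩, hy⟩
    rw [hgg' (some ⟨y, hyU⟩)] at h1
    have hk0 : 0 < k ⟨y, hyU⟩ := Nat.pos_of_ne_zero fun h => by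
      have := hk ⟨y, hyU⟩; rw [h, mul_zero] at this; omega
    rwa [show G (some ⟨y, hyU⟩) = g ⟨y, hyU⟩ ^ k ⟨y, hyU⟩ from rfl, Scheme.basicOpen_pow _ _ hk0] at h1

end Groth.Agent.DimOneAmple
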